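import Mathlib
import Groth.Agent.GlueFlatLib.Basic
import Groth.Agent.TorDimLib.FlatVanish

/-!
`Tor₁(R', X) = 0` for a glueing pair whenever `X_f` is flat.
-/

set_option autoImplicit false
universe u

open CategoryTheory CategoryTheory.Limits TensorProduct

namespace Groth.Agent.GlueTorLib

theorem subsingleton_tor_one {R : Type u} [CommRing R] {R' : Type u} [CommRing R'] [Algebra R R']
    {f : R} (hRR : EtGlue.IsGlueingPair R R' f) (X : Type u) [AddCommGroup X] [Module R X]
    [Module.Flat (Localization.Away f) (Localization.Away f ⊗[R] X)] :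
    Subsingleton (DRing.Tor R 1 R' X) := by
  obtain ⟨P⟩ := (inferInstance : HasProjectiveResolution (ModuleCat.of R X)).out
  refine TorDimLib.subsingleton_tor_of_exactAtSucc P 0 ?_
  let π : P.complex.X 0 →ₗ[R] X := (P.π.f 0).hom
  have hπ : Function.Surjective π := (ModuleCat.epi_iff_surjective (P.π.f 0)).1 inferInstance
  have hex : Function.Exact (P.complex.d 1 0).hom π :=
    (ShortComplex.ShortExact.moduleCat_exact_iff_function_exact _).1
      (ShortComplex.exact_of_g_is_cokernel (S := ShortComplex.mk _ _ P.complex_d_comp_π_f_zero)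
        P.isColimitCokernelCofork)
  have := TorDimLib.flat_X P 0
  have hinj := GlueFlatLib.ker_injective π hπ hRR
  let D1' : P.complex.X 1 →ₗ[R] LinearMap.ker π :=
    (P.complex.d 1 0).hom.codRestrict _ hex.apply_apply_eq_zero
  have hD1' : Function.Surjective D1' := fun x => by
    obtain ⟨z, hz⟩ := (hex x.1).1 x.2
    exact ⟨z, Subtype.ext hz⟩
  have h12 : Function.Exact (P.complex.d 2 1).hom (P.complex.d 1 0).hom :=
    (ShortComplex.ShortExact.moduleCat_exact_iff_function_exact _).1 (P.exact_succ 0)
  have hex' : Function.Exact (P.complex.d 2 1).hom D1' := fun z =>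
    ⟨fun h => (h12 z).1 (congrArg Subtype.val h), fun h => Subtype.ext ((h12 z).2 h)⟩
  intro z
  rw [← lTensor_exact R' hex' hD1' z]
  refine ⟨fun hz => hinj ?_, fun hz => ?_⟩
  · rw [map_zero, ← LinearMap.lTensor_comp_apply]
    exact hz
  · rw [show (P.complex.d (0 + 1) 0).hom = (LinearMap.ker π).subtype.comp D1' from rfl,
      LinearMap.lTensor_comp_apply, hz, map_zero]

end Groth.Agent.GlueTorLib
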